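import Groth.Agent.Lib.TensorPerf20.Strict
import Groth.Agent.Lib.FunMor20.Functors
import Groth.Agent.Lib.OX.AffineLocal
import Groth.Agent.Lib.OX.TildePerfect
import Groth.Agent.Lib.QCoh.TildeFinite
import Groth.Agent.Lib.ModDesc.Approx
import Groth.Agent.Lib.VA.Tensor

/-!
# Derived tensor products of pullbacks with a kernel flat over the source
-/

set_option autoImplicit false
set_option maxHeartbeats 800000
set_option linter.style.haveILetI false
set_option backward.isDefEq.respectTransparency false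

universe u

open CategoryTheory CategoryTheory.Limits AlgebraicGeometry HomologicalComplex

attribute [local instance] HasDerivedCategory.standard

namespace GrothLib.TensorPerf20

open OX

theorem isCoh_of_epi {X : Scheme.{u}} {A T : X.Modules} (g : A ⟶ T) [Epi g] (hA : Coh.IsCoh A)
    (hT : Coh.IsQCoh T) : Coh.IsCoh T := by
  haveI := hA.1
  haveI : T.IsQuasicoherent := hT
  haveI := QCoh.isQuasicoherent_kernel g
  have hex : (ShortComplex.mk (kernel.ι g) g (kernel.condition g)).Exact :=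
    ShortComplex.exact_of_f_is_kernel _ (kernelIsKernel g)
  exact QCoh.isCoh_of_iso (IsColimit.coconePointUniqueUpToIso (cokernelIsCokernel (kernel.ι g))
      (@ShortComplex.Exact.gIsCokernel _ _ _ _ _ hex ‹Epi g›))
    ⟨QCoh.isQuasicoherent_cokernel _, QCoh.isFiniteType_cokernel _ hA.2⟩

theorem exists_finite_free_cover {R : CommRingCat.{u}} (M : ModuleCat.{u} R) [Module.Finite R M] :
    ∃ (n : ℕ) (f : (tilde.functor R).obj (ModuleCat.of R (Fin n → R)) ⟶ (tilde.functor R).obj M), Epi f := by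
  obtain ⟨n, π, hπ⟩ := Module.Finite.exists_fin' R M
  haveI : Epi (ModuleCat.ofHom π) := (ModuleCat.epi_iff_surjective (ModuleCat.ofHom π)).2 hπ
  haveI : (tilde.functor R).IsLeftAdjoint := tilde.adjunction.isLeftAdjoint
  exact ⟨n, (tilde.functor R).map (ModuleCat.ofHom π), inferInstance⟩

theorem isCoh_tensor_spec {R : CommRingCat.{u}} [IsNoetherianRing R] {A B : (Spec R).Modules} (hA : Coh.IsCoh A)
    (hB : Coh.IsCoh B) : Coh.IsCoh (((DCoh.tensorBi (X := Spec R)).obj A).obj B) := by
  haveI := hA.1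
  haveI : IsIso A.fromTildeΓ := Scheme.Modules.isIso_fromTildeΓ_of_isQuasicoherent A
  obtain ⟨n, f, hf⟩ := @exists_finite_free_cover R ((moduleSpecΓFunctor (R := R)).obj A)
    (QCoh.moduleFinite_top_spec A hA.2)
  let P : ModuleCat.{u} R := ModuleCat.of R (Fin n → R)
  haveI := hf
  let T := (DCoh.tensorBi (X := Spec R)).flip.obj B
  haveI : PreservesColimitsOfSize.{0, 0} T :=
    @preservesColimitsOfSize_shrink _ _ _ _ _ (preservesColimitsOfSize_tensorBi_flip_obj B)
  let q : (tilde.functor R).obj P ⟶ A := f ≫ A.fromTildeΓ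
  haveI : Epi q := epi_comp _ _
  haveI : Epi (T.map q) := inferInstance
  exact isCoh_of_epi (T.map q)
    (QCoh.isCoh_of_iso (((tensorBraiding (X := Spec R)).app ((tilde.functor R).obj P)).app B)
      (Euler.isCoh_tF hB (isFinLocFree_tilde P)))
    (VA.isQCoh_tensor hA.1 hB.1)

/-- The tensor product of coherent modules is coherent. -/
theorem isCoh_tensor {X : Scheme.{u}} [IsLocallyNoetherian X] {A B : X.Modules} (hA : Coh.IsCoh A)
    (hB : Coh.IsCoh B) : Coh.IsCoh (((DCoh.tensorBi (X := X)).obj A).obj B) :=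
  isCoh_of_affines fun U hU => by
    let j := hU.fromSpec
    let R := Scheme.Modules.restrictFunctorIsoPullback j
    haveI : IsNoetherianRing Γ(X, U) := IsLocallyNoetherian.component_noetherian ⟨U, hU⟩
    exact QCoh.isCoh_of_iso (R.app _ ≪≫ pullTensorIso j A B).symm
      (isCoh_tensor_spec (QCoh.isCoh_of_iso (R.app A) (Cohom.isCoh_restrict _ hA j))
        (QCoh.isCoh_of_iso (R.app B) (Cohom.isCoh_restrict _ hB j)))

variable {Z X : Scheme.{u}} (p : Z ⟶ X) (K : Z.Modules)

/-- The functor `N ↦ p^*N ⊗ K`. -/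
noncomputable abbrev pullTensor : X.Modules ⥤ Z.Modules := Scheme.Modules.pullback p ⋙ Euler.tF K

/-- The cohomology of `Lp^*M ⊗^L K`. -/
theorem nonempty_HD_LTensorMod_Lpull (hK : FlatMod.IsFlatOver p K) [DCoh.HasLpull p] [DCoh.HasLTensorMod K]
    (M : DCoh.D X) (i : ℤ) :
    Nonempty (DCoh.HD ((DCoh.LTensorMod K).obj ((DCoh.Lpull p).obj M)) i ≅ (pullTensor p K).obj (DCoh.HD M i)) := by
  obtain ⟨P, hP, ⟨e⟩⟩ := exists_kflat_rep M
  obtain ⟨v⟩ := lpull_value p P hP
  obtain ⟨w⟩ := hd_ltensor K _ (isKFlat_pullback p hP) (v.symm ≪≫ (DCoh.Lpull p).mapIso e) i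
  let G := pullTensor p K
  obtain ⟨hl, hr⟩ := FunMor20.exact_pullback_tensor (𝟭 X.Modules) p K hK
  let η : (𝟭 X.Modules) ⋙ Scheme.Modules.pullback p ⋙ DCoh.tensorRightMod K ≅ G :=
    Functor.leftUnitor _ ≪≫ Functor.isoWhiskerLeft _ (tensorRightModIso K)
  haveI := preservesFiniteLimits_of_natIso η
  haveI := preservesFiniteColimits_of_natIso η
  haveI : G.Additive := inferInstance
  haveI : G.PreservesHomology := inferInstance
  let c : (tensorModCx K).obj ((pullCxF p).obj P) ≅ (G.mapHomologicalComplex (ComplexShape.up ℤ)).obj P :=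
    HomologicalComplex.Hom.isoOfComponents (fun n => Iso.refl _) (fun m n _ => by simp [G])
  exact ⟨w ≪≫ (homologyFunctor Z.Modules (ComplexShape.up ℤ) i).mapIso c ≪≫ (P.sc i).mapHomologyIso G ≪≫
    G.mapIso ((hdIso P i).symm ≪≫ (DerivedCategory.homologyFunctor X.Modules i).mapIso e)⟩

/-- Coherence, support and boundedness of `Lp^*M ⊗^L K`. -/
theorem isCohD_bounded_LTensorMod_Lpull [IsLocallyNoetherian Z] (hK : FlatMod.IsFlatOver p K) (hKc : Coh.IsCoh K)
    [DCoh.HasLpull p] [DCoh.HasLTensorMod K] (M : DCoh.D X) (hM : DCoh.IsCohD M) (m n : ℤ) [M.IsGE m] [M.IsLE n] :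
    (∀ i, suppP Z (CohB1.support K) (DCoh.HD ((DCoh.LTensorMod K).obj ((DCoh.Lpull p).obj M)) i)) ∧
      ((DCoh.LTensorMod K).obj ((DCoh.Lpull p).obj M)).IsGE m ∧
        ((DCoh.LTensorMod K).obj ((DCoh.Lpull p).obj M)).IsLE n := by
  let w := fun i => (nonempty_HD_LTensorMod_Lpull p K hK M i).some
  haveI : PreservesColimitsOfSize.{0, 0} (Euler.tF K) :=
    @preservesColimitsOfSize_shrink _ _ _ _ _ (preservesColimitsOfSize_tensorBi_flip_obj K)
  haveI : (Euler.tF K).PreservesZeroMorphisms := inferInstance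
  have hz : ∀ N : X.Modules, IsZero N → IsZero ((pullTensor p K).obj N) := fun N hN =>
    (Euler.tF K).map_isZero ((Scheme.Modules.pullback p).map_isZero hN)
  refine ⟨fun i => (suppP Z (CohB1.support K)).prop_of_iso (w i).symm ⟨?_, ?_⟩, ?_, ?_⟩
  · exact isCoh_tensor (ModDesc.isCoh_pullback p _ (hM i)) hKc
  · exact ((QCoh.support_eq_of_iso (((tensorBraiding (X := Z)).app K).app
      ((Scheme.Modules.pullback p).obj (DCoh.HD M i)))).le).trans
      (support_tensor_subset K ((Scheme.Modules.pullback p).obj (DCoh.HD M i)))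
  · exact (DerivedCategory.isGE_iff _ _).2 fun i hi =>
      (hz _ (DerivedCategory.isZero_of_isGE M m i hi)).of_iso (w i)
  · exact (DerivedCategory.isLE_iff _ _).2 fun i hi =>
      (hz _ (DerivedCategory.isZero_of_isLE M n i hi)).of_iso (w i)

end GrothLib.TensorPerf20
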