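import Groth.Agent.Lib.TensorPerf20.Strict
import Groth.Agent.Lib.OX.LocalTensor
import Groth.Agent.Lib.OX.Support
import Groth.Agent.Lib.OX.OneDegLocus

/-!
# Derived tensor products of bounded coherent complexes with perfect objects
-/

set_option autoImplicit false
set_option maxHeartbeats 800000
set_option linter.style.haveILetI false
set_option backward.isDefEq.respectTransparency false

universe u

open CategoryTheory CategoryTheory.Limits AlgebraicGeometry HomologicalComplex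

attribute [local instance] HasDerivedCategory.standard

namespace GrothLib.TensorPerf20

open OX

variable {X : Scheme.{u}}

theorem mem_support_restrict {U : Scheme.{u}} (j : U ⟶ X) [IsOpenImmersion j] (M : X.Modules) (y : U) :
    y ∈ CohB1.support ((Scheme.Modules.restrictFunctor j).obj M) ↔ j y ∈ CohB1.support M :=
  not_congr ⟨fun h => @Equiv.subsingleton _ _
      ((Scheme.Modules.restrictStalkNatIso j y).app M).addCommGroupIsoToAddEquiv.symm.toEquiv h,
    fun h => @Equiv.subsingleton _ _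
      ((Scheme.Modules.restrictStalkNatIso j y).app M).addCommGroupIsoToAddEquiv.toEquiv h⟩

variable [IsLocallyNoetherian X]

/-- Derived tensor product of a bounded coherent complex with a perfect object. -/
theorem isCohD_bounded_LTensorCx [CompactSpace X] (K : CochainComplex X.Modules ℤ) [DCoh.HasLTensorCx K] (T : Set X)
    (hK : ∀ j, suppP X T (K.homology j)) (kl ku : ℤ) (hz : ∀ j, j < kl ∨ ku < j → IsZero (K.homology j))
    {N : DCoh.D X} (hN : DCoh.IsPerfect N) :
    (∀ i, suppP X T (DCoh.HD ((DCoh.LTensorCx K).obj N) i)) ∧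
      ∃ lo hi : ℤ, ((DCoh.LTensorCx K).obj N).IsGE lo ∧ ((DCoh.LTensorCx K).obj N).IsLE hi := by
  obtain ⟨P, hP, ⟨e⟩⟩ := exists_kflat_rep N
  obtain ⟨Kk, q, hKk, -, hq, -⟩ := exists_kflat_resolution K
  have hqq := quasiIso_tensor_map_of_isKFlat q P hP
  obtain ⟨v⟩ := ltensorCx_value K P hP
  let Z := ((DCoh.tensorCx (X := X)).obj Kk).obj P
  let w : ∀ i, DCoh.HD ((DCoh.LTensorCx K).obj N) i ≅ Z.homology i := fun i =>
    (DerivedCategory.homologyFunctor X.Modules i).mapIso ((DCoh.LTensorCx K).mapIso e.symm ≪≫ v) ≪≫ hdIso _ i ≪≫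
      (isoOfQuasiIsoAt (((DCoh.tensorCx (X := X)).obj P).map q) i).symm ≪≫
      (homologyFunctor X.Modules (ComplexShape.up ℤ) i).mapIso (tensorCxSymm Kk P)
  let c : ∀ j, Kk.homology j ≅ K.homology j := fun j => isoOfQuasiIsoAt q j
  have key : ∀ x : X, ∃ (V : X.Opens) (lo hi : ℤ), x ∈ V ∧ ∀ i,
      suppP (V : Scheme.{u}) (V.ι ⁻¹' T) ((Scheme.Modules.restrictFunctor V.ι).obj (Z.homology i)) ∧
        (i < lo ∨ hi < i → IsZero ((Scheme.Modules.restrictFunctor V.ι).obj (Z.homology i))) := fun x => by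
    obtain ⟨V, S, hx, hS, ⟨iS⟩⟩ := (isPerfect_iff_rep e).1 hN x
    obtain ⟨⟨a, b, hab⟩, hSX⟩ := id hS
    let j := V.ι
    let R := Scheme.Modules.restrictFunctor j
    let r : ∀ (C : CochainComplex X.Modules ℤ) (i : ℤ), ((resCx j).obj C).homology i ≅ R.obj (C.homology i) :=
      fun C i => (C.sc i).mapHomologyIso R
    have hKk' := isKFlat_resCx j hKk
    obtain ⟨t⟩ := nonempty_iso_tensorCx hKk' hKk' (isKFlat_resCx j hP) (isKFlat_of_strictlyPerfect hS)
      (Iso.refl _) iS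
    refine ⟨V, a + kl, max a b + ku, hx, fun i => ?_⟩
    let d : R.obj (Z.homology i) ≅ (((DCoh.tensorCx (X := (V : Scheme.{u}))).obj ((resCx j).obj Kk)).obj S).homology i :=
      (r Z i).symm ≪≫ (homologyFunctor _ (ComplexShape.up ℤ) i).mapIso (resTensorCxIso j Kk P) ≪≫
        (hdIso _ i).symm ≪≫ (DerivedCategory.homologyFunctor _ i).mapIso t ≪≫ hdIso _ i
    have hKV : ∀ k, suppP (V : Scheme.{u}) (j ⁻¹' T) (((resCx j).obj Kk).homology k) := fun k =>
      (suppP (V : Scheme.{u}) (j ⁻¹' T)).prop_of_iso (R.mapIso (c k).symm ≪≫ (r Kk k).symm)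
        ⟨Cohom.isCoh_restrict _ (hK k).1 j, fun y hy => (hK k).2 ((mem_support_restrict j _ y).1 hy)⟩
    have h := homology_tensorCx_strict (suppP (V : Scheme.{u}) (j ⁻¹' T)) (fun M Y hM hY => suppP_tensor _ hM hY)
      ((resCx j).obj Kk) hKV kl ku (fun k hk => (R.map_isZero (hz k hk)).of_iso (r Kk k ≪≫ R.mapIso (c k)))
      S hSX a b hab i
    exact ⟨(suppP (V : Scheme.{u}) (j ⁻¹' T)).prop_of_iso d.symm h.1, fun hi => (h.2 hi).of_iso d⟩
  choose V lo hi hx hV using key
  refine ⟨fun i => (suppP X T).prop_of_iso (w i).symm ⟨?_, fun x hxs => ?_⟩, ?_⟩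
  · exact Euler.isCoh_of_restrict fun x => ⟨V x, hx x, (hV x i).1.1⟩
  · exact (hV x i).1.2 ((mem_support_restrict (V x).ι _ (⟨x, hx x⟩ : (V x : Scheme.{u}))).2 hxs)
  obtain ⟨t, ht⟩ := CompactSpace.isCompact_univ.elim_finite_subcover (fun x => (V x : Set X))
    (fun x => (V x).isOpen) (fun x _ => Set.mem_iUnion.2 ⟨x, hx x⟩)
  obtain ⟨A₀, hA⟩ := (t.image lo).bddBelow
  obtain ⟨B₀, hB⟩ := (t.image hi).bddAbove
  have hzero : ∀ i : ℤ, i < A₀ ∨ B₀ < i → IsZero (DCoh.HD ((DCoh.LTensorCx K).obj N) i) := fun i hi' => by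
    refine IsZero.of_iso (isZero_of_local fun x => ?_) (w i)
    obtain ⟨y, hy⟩ := Set.mem_iUnion.1 (ht (Set.mem_univ x))
    obtain ⟨hyt, hxy⟩ := Set.mem_iUnion.1 hy
    refine ⟨_, (V y).ι, inferInstance, (V y).range_ι.symm ▸ hxy, (hV y i).2 ?_⟩
    have h1 := hA (Finset.mem_coe.2 (Finset.mem_image_of_mem lo hyt))
    have h2 := hB (Finset.mem_coe.2 (Finset.mem_image_of_mem hi hyt))
    omega
  exact ⟨A₀, B₀, (DerivedCategory.isGE_iff _ _).2 fun i hi' => hzero i (Or.inl hi'),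
    (DerivedCategory.isLE_iff _ _).2 fun i hi' => hzero i (Or.inr hi')⟩

end GrothLib.TensorPerf20
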