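import Groth.Agent.Lib.OX.QCohTensor
import Groth.Agent.Lib.OX.CohClass
import Groth.Agent.Lib.Euler.TensorSupport
import Groth.Agent.Lib.OX.StalkTensor
import Groth.Agent.Lib.DerCat.CohIn

/-!
# Tensor products with strictly perfect complexes, cohomology in a weak Serre class
-/

set_option autoImplicit false
set_option maxHeartbeats 800000
set_option linter.style.haveILetI false
set_option backward.isDefEq.respectTransparency false

universe u

open CategoryTheory CategoryTheory.Limits AlgebraicGeometry HomologicalComplex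

attribute [local instance] HasDerivedCategory.standard

namespace GrothLib.TensorPerf20

open OX GrothLib.Trunc

variable {X : Scheme.{u}}

/-- Coherent modules supported in a given set. -/
def suppP (X : Scheme.{u}) (T : Set X) : ObjectProperty X.Modules := fun M =>
  Coh.IsCoh M ∧ CohB1.support M ⊆ T

instance isWeakSerre_suppP [IsLocallyNoetherian X] (T : Set X) : WSerre.IsWeakSerre (suppP X T) where
  exists_zero := by
    obtain ⟨Z, hZ⟩ : ∃ Z : X.Modules, IsZero Z := HasZeroObject.zero
    exact ⟨Z, hZ, OX.isCoh_of_isZero hZ, fun x hx =>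
      absurd (ModuleCat.subsingleton_of_isZero ((OX.stalk x).map_isZero hZ)) hx⟩
  kernels_le := fun K hK => by
    obtain ⟨g, k, hk, hg⟩ := hK
    let e := IsLimit.conePointUniqueUpToIso (kernelIsKernel g) hk
    exact ⟨QCoh.isCoh_of_iso e (QCoh.isCoh_kernel g hg.1.1 hg.2.1),
      ((QCoh.support_eq_of_iso e).ge.trans (QCoh.support_subset_of_mono (kernel.ι g))).trans hg.1.2⟩
  cokernels_le := fun K hK => by
    obtain ⟨g, k, hk, hg⟩ := hK
    let e := IsColimit.coconePointUniqueUpToIso (cokernelIsCokernel g) hk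
    exact ⟨QCoh.isCoh_of_iso e (QCoh.isCoh_cokernel g hg.1.1 hg.2.1),
      ((QCoh.support_eq_of_iso e).ge.trans (QCoh.support_subset_of_epi (cokernel.π g))).trans hg.2.2⟩
  prop_X₂_of_shortExact := fun {S} hS h₁ h₃ =>
    ⟨OX.isCoh_extension hS h₁.1 h₃.1, (QCoh.support_subset_union hS).trans (Set.union_subset h₁.2 h₃.2)⟩

/-- Tensoring does not enlarge the support. -/
theorem support_tensor_subset (M N : X.Modules) :
    CohB1.support (((DCoh.tensorBi (X := X)).obj M).obj N) ⊆ CohB1.support M := fun x hx h => by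
  have h0 : IsZero ((OX.stalk x).obj M) := @ModuleCat.isZero_of_subsingleton _ _ ((OX.stalk x).obj M) h
  exact hx (ModuleCat.subsingleton_of_isZero
    (((MonoidalCategory.tensorRight ((OX.stalk x).obj N)).map_isZero h0).of_iso (OX.stalkTensorBiIso x M N)))

theorem suppP_tensor [IsLocallyNoetherian X] (T : Set X) {M Y : X.Modules} (hM : suppP X T M)
    (hY : FlatMod.IsFinLocFree Y) : suppP X T ((Euler.tF Y).obj M) :=
  ⟨Euler.isCoh_tF hM.1 hY, (support_tensor_subset M Y).trans hM.2⟩

/-- Tensoring with a flat module commutes with cohomology. -/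
theorem nonempty_homology_tensorModCx {Y : X.Modules} (hY : FlatMod.IsFlat Y) (K : CochainComplex X.Modules ℤ)
    (i : ℤ) : Nonempty (((tensorModCx Y).obj K).homology i ≅ (Euler.tF Y).obj (K.homology i)) := by
  haveI : (Euler.tF Y).PreservesHomology :=
    ((Functor.exact_tfae (Euler.tF Y)).out 0 2).1 ((flat_iff_tensor_exact Y).1 hY)
  exact ⟨(K.sc i).mapHomologyIso (Euler.tF Y)⟩

section

variable (P : ObjectProperty X.Modules) [WSerre.IsWeakSerre P]
  (hP : ∀ M Y : X.Modules, P M → FlatMod.IsFinLocFree Y → P ((Euler.tF Y).obj M))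
  (K : CochainComplex X.Modules ℤ) (hK : ∀ j, P (K.homology j))
  (kl ku : ℤ) (hz : ∀ j, j < kl ∨ ku < j → IsZero (K.homology j))

include hP hK hz in
/-- The cohomology of the tensor product with a strictly perfect complex. -/
theorem homology_tensorCx_strict (S : CochainComplex X.Modules ℤ) (hS : ∀ i, FlatMod.IsFinLocFree (S.X i))
    (a b : ℤ) (hab : DCoh.VanishesOutside S a b) (i : ℤ) :
    P ((((DCoh.tensorCx (X := X)).obj K).obj S).homology i) ∧
      (i < a + kl ∨ max a b + ku < i → IsZero ((((DCoh.tensorCx (X := X)).obj K).obj S).homology i)) := by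
  let Φ := (DCoh.tensorCx (X := X)).obj K
  let c := max a b
  have hge : ∀ k : ℕ, (k : ℤ) ≤ c + 1 - a → ∀ i,
      P ((Φ.obj (geObj S (c + 1 - k))).homology i) ∧
        (i < a + kl ∨ c + ku < i → IsZero ((Φ.obj (geObj S (c + 1 - k))).homology i)) := by
    intro k
    induction k with
    | zero =>
      intro _ i
      have h0 : IsZero (geObj S (c + 1)) := (IsZero.iff_id_eq_zero _).2 (HomologicalComplex.hom_ext _ _ fun n => by
        by_cases h : c + 1 ≤ n
        · have := isIso_geι_f S (c + 1) h
          exact ((hab n (Or.inr (by omega))).of_iso (asIso ((geι S (c + 1)).f n))).eq_of_src _ _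
        · exact (isZero_geObj_X S _ h).eq_of_src _ _)
      have h1 : IsZero ((Φ.obj (geObj S (c + 1 - ((0 : ℕ) : ℤ)))).homology i) := by
        simpa using (homologyFunctor X.Modules (ComplexShape.up ℤ) i).map_isZero (Φ.map_isZero h0)
      exact ⟨P.prop_of_isZero h1, fun _ => h1⟩
    | succ k ih =>
      intro hk i
      let a' := c + 1 - ((k + 1 : ℕ) : ℤ)
      let T := ShortComplex.mk _ _ (geMap_geTop S a' (show a' ≤ a' + 1 by omega))
      have hT0 : T.ShortExact := geShortExact S a'
      have hT : (T.map Φ).ShortExact := by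
        refine tensorCx_map_shortExact K T fun M q => ?_
        have h := hT0.map_of_exact (HomologicalComplex.eval X.Modules (ComplexShape.up ℤ) q)
        by_cases hqa : q = a'
        · have hz : IsZero (T.map (HomologicalComplex.eval X.Modules (ComplexShape.up ℤ) q)).X₁ :=
            isZero_geObj_X S (a' + 1) (by omega)
          have : IsIso (T.map (HomologicalComplex.eval X.Modules (ComplexShape.up ℤ) q)).g := h.isIso_g_iff.2 hz
          exact ShortComplex.Splitting.shortExact ((ShortComplex.Splitting.ofIsZeroOfIsIso _ hz this).map _)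
        · have hz : IsZero (T.map (HomologicalComplex.eval X.Modules (ComplexShape.up ℤ) q)).X₃ :=
            HomologicalComplex.isZero_single_obj_X (ComplexShape.up ℤ) a' _ q hqa
          have : IsIso (T.map (HomologicalComplex.eval X.Modules (ComplexShape.up ℤ) q)).f := h.isIso_f_iff.2 hz
          exact ShortComplex.Splitting.shortExact ((ShortComplex.Splitting.ofIsIsoOfIsZero _ this hz).map _)
      have e : a' + 1 = c + 1 - (k : ℤ) := by simp only [a']; push_cast; omega
      have h₁ : ∀ j, P ((T.map Φ).X₁.homology j) ∧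
          (j < a + kl ∨ c + ku < j → IsZero ((T.map Φ).X₁.homology j)) := by
        change ∀ j, P ((Φ.obj (geObj S (a' + 1))).homology j) ∧
          (j < a + kl ∨ c + ku < j → IsZero ((Φ.obj (geObj S (a' + 1))).homology j))
        rw [e]
        exact ih (by omega)
      have h₃ : ∀ j, P ((T.map Φ).X₃.homology j) ∧
          (j < a + kl ∨ c + ku < j → IsZero ((T.map Φ).X₃.homology j)) := fun j => by
        obtain ⟨e₁⟩ := nonempty_tensor_single K (S.X a') a' j
        obtain ⟨e₂⟩ := nonempty_homology_tensorModCx (flat_of_isFinLocFree (hS a')) K (j - a')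
        exact ⟨P.prop_of_iso (e₁ ≪≫ e₂).symm (hP _ _ (hK _) (hS a')), fun hj =>
          ((Euler.tF (S.X a')).map_isZero (hz (j - a') (by omega))).of_iso (e₁ ≪≫ e₂)⟩
      refine ⟨DerTrunc.prop_of_exact P (hT.homology_exact₁ (i - 1) i (by simp)) (hT.homology_exact₂ i)
        (hT.homology_exact₃ i (i + 1) (by simp)) (h₃ (i - 1)).1 (h₁ i).1 (h₃ i).1 (h₁ (i + 1)).1, fun hi => ?_⟩
      exact (hT.homology_exact₂ i).isZero_of_both_zeros (((h₁ i).2 hi).eq_of_src _ _)
        (((h₃ i).2 hi).eq_of_tgt _ _)
  obtain ⟨h1, h2⟩ := hge (c + 1 - a).toNat (by omega) i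
  rw [show c + 1 - ((c + 1 - a).toNat : ℤ) = a by omega] at h1 h2
  haveI : ∀ n, IsIso ((geι S a).f n) := fun n => by
    by_cases h : a ≤ n
    · exact isIso_geι_f S a h
    · exact ⟨0, (isZero_geObj_X S a h).eq_of_src _ _, (hab n (Or.inl (by omega))).eq_of_src _ _⟩
  haveI : IsIso (geι S a) := HomologicalComplex.Hom.isIso_of_components (geι S a)
  let w := (homologyFunctor X.Modules (ComplexShape.up ℤ) i).mapIso (Φ.mapIso (asIso (geι S a)))
  exact ⟨P.prop_of_iso w h1, fun hi => (h2 hi).of_iso w.symm⟩

end

end GrothLib.TensorPerf20
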